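import Cfsg.Agent.H759.RIM.SuzTr

/-!
# S4816: the row `Suz` at the primes 3, 5, 7 (helper759)
-/

set_option autoImplicit false
set_option linter.unusedSectionVars false

namespace Cfsg.Agent.H759.RIM.SuzRow

open Cfsg Cfsg.Spor Subgroup
open Cfsg.Agent.H622.Over (Lies)
open Cfsg.Agent.H665.RIM Cfsg.Agent.H620.RIM Cfsg.Agent.H759.RIM.SuzUp

universe u

theorem nb_of {p m : ℕ} {K : Type u} [Group K]
    (h : ∀ (E : Type u) [Group E] [Finite E] (π : E →* K), Function.Surjective π → π.ker ≤ center E →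
      commutator E = ⊤ → Nat.card π.ker = m → ∀ l : π.ker →* ℂˣ, Function.Injective l →
      (∀ χ : IrrCharacter E, Lies π.ker l (χ : E → ℂ) → ¬ p ∣ charDegree (χ : E → ℂ)) → False) : NB p m K := by
  intro E _ _ π hπ hker hperf hcard l hl
  by_contra hno
  refine h E π hπ hker hperf hcard l hl fun χ hχ hd => hno ⟨χ, χ.2, fun z => ?_, hd⟩
  have h1 := hχ 1 z
  rwa [one_mul] at h1

theorem m_cases {m : ℕ} (h : m ∣ 6) (h2 : 2 ≤ m) : m = 2 ∨ m = 3 ∨ m = 6 := by
  have h3 : m ≤ 6 := Nat.le_of_dvd (by norm_num) h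
  interval_cases m
  · exact Or.inl rfl
  · exact Or.inr (Or.inl rfl)
  · exact absurd h (by norm_num)
  · exact absurd h (by norm_num)
  · exact Or.inr (Or.inr rfl)

/-- **(Suz, 3)** -/
theorem nball_three {K : Type u} [Group K] [Finite K] (h : Spor.IsoSuz K) : NBall.{u} 3 K := by
  refine nball_of_mdvd (dvd_suz h) fun m hm hm2 hpm => ?_
  obtain ⟨e⟩ := h
  refine nb_of fun E _ _ π hπ hker hperf hcard l hl hS => ?_
  obtain ⟨θ, hθ, hq⟩ := exists_cov e hπ hker hperf
  obtain ⟨h2, h3, h6⟩ := Cfsg.Agent.H714.RIM.SuzCount.le_card_of (l := l) hπ hker (Cfsg.Agent.H759.RIM.SuzTr.traces hθ hq)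
  have h4 := le_three hθ hq hker hl hS
  rcases m_cases hm hm2 with rfl | rfl | rfl
  · have := h2 hcard
    omega
  · exact hpm (by norm_num)
  · exact hpm (by norm_num)

/-- **(Suz, 5)** -/
theorem nball_five {K : Type u} [Group K] [Finite K] (h : Spor.IsoSuz K) : NBall.{u} 5 K := by
  refine nball_of_mdvd (dvd_suz h) fun m hm hm2 hpm => ?_
  obtain ⟨e⟩ := h
  refine nb_of fun E _ _ π hπ hker hperf hcard l hl hS => ?_
  obtain ⟨θ, hθ, hq⟩ := exists_cov e hπ hker hperf
  obtain ⟨h2, h3, h6⟩ := Cfsg.Agent.H714.RIM.SuzCount.le_card_of (l := l) hπ hker (Cfsg.Agent.H759.RIM.SuzTr.traces hθ hq)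
  rcases m_cases hm hm2 with rfl | rfl | rfl
  · have h7 := h2 hcard
    have h8 := le_five_even hθ hq hker hcard (by norm_num) (by norm_num) hl hS
    omega
  · have h7 := h3 hcard
    have h8 := le_five_three hθ hq hker hcard hl hS
    omega
  · have h7 := h6 hcard
    have h8 := le_five_even hθ hq hker hcard (by norm_num) (by norm_num) hl hS
    omega

/-- **(Suz, 7)** -/
theorem nball_seven {K : Type u} [Group K] [Finite K] (h : Spor.IsoSuz K) : NBall.{u} 7 K := by
  refine nball_of_mdvd (dvd_suz h) fun m hm hm2 hpm => ?_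
  obtain ⟨e⟩ := h
  refine nb_of fun E _ _ π hπ hker hperf hcard l hl hS => ?_
  obtain ⟨θ, hθ, hq⟩ := exists_cov e hπ hker hperf
  obtain ⟨h2, h3, h6⟩ := Cfsg.Agent.H714.RIM.SuzCount.le_card_of (l := l) hπ hker (Cfsg.Agent.H759.RIM.SuzTr.traces hθ hq)
  rcases m_cases hm hm2 with rfl | rfl | rfl
  · have h7 := h2 hcard
    have h8 := le_seven_even hθ hq hker hcard (by norm_num) hl hS
    omega
  · have h7 := h3 hcard
    have h8 := le_seven_three hθ hq hker hcard hl hS
    omega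
  · have h7 := h6 hcard
    have h8 := le_seven_even hθ hq hker hcard (by norm_num) hl hS
    omega

end Cfsg.Agent.H759.RIM.SuzRow
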