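import Cfsg.Agent.H759.RIM.SuzY
import Cfsg.Agent.H795.RIM.Form
import Cfsg.Agent.H620.RIM.Mult

/-!
# S4816, row `Suz`: upper bounds for the number of characters over a faithful central character (helper759)
-/

set_option autoImplicit false
set_option linter.unusedSectionVars false
set_option maxRecDepth 1000000

namespace Cfsg.Agent.H759.RIM.SuzUp

open Cfsg Cfsg.Spor Subgroup Cfsg.Agent.H759.RIM.SuzS Cfsg.Agent.H759.RIM.SuzY
open Cfsg.Agent.H58.SuzRep (Y q q_z z q_ker q_surj)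
open Cfsg.Agent.H264.QS.Suz6 (perf_suz pce_q card_ker ker_le)
open Cfsg.Agent.H622.Over (Lies)
open Cfsg.Agent.H795.RIM.Form

universe u

variable {K : Type u} [Group K] [Finite K] {e : K ≃* Suz} {E : Type u} [Group E] [Finite E] {π : E →* K}

/-- the cover -/
theorem exists_cov (e : K ≃* Suz) (hπ : Function.Surjective π) (hker : π.ker ≤ center E)
    (hperf : commutator E = ⊤) : ∃ θ : Y →* E, Function.Surjective θ ∧ ∀ y, e (π (θ y)) = q y := by
  have : Finite Y := inferInstance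
  obtain ⟨θ, h1, h2⟩ := Cfsg.Agent.H95.StemCover.exists_cover' perf_suz (A := Multiplicative (ZMod 6))
    Cfsg.Agent.S2048.result q pce_q.toStem (by rw [card_ker]; simp) hperf (e.toMonoidHom.comp π)
    (e.surjective.comp hπ) (by
      intro x hx
      refine hker ?_
      rw [MonoidHom.mem_ker] at hx ⊢
      exact e.injective (by rw [map_one]; exact hx))
  exact ⟨θ, h1, h2⟩

/-- the order of a centralizer in a central extension -/
theorem card_cent_le {G H : Type*} [Group G] [Finite G] [Group H] [Finite H] (π : G →* H) (g : G) :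
    Nat.card (centralizer ({g} : Set G)) ≤ Nat.card π.ker * Nat.card (centralizer ({π g} : Set H)) := by
  have h1 := Subgroup.card_eq_card_quotient_mul_card_subgroup (π.comp (centralizer ({g} : Set G)).subtype).ker
  rw [h1, mul_comm]
  refine Nat.mul_le_mul ?_ ?_
  · refine Nat.card_le_card_of_injective (fun x => (⟨x.1.1, x.2⟩ : π.ker)) ?_
    intro x y hxy
    exact Subtype.ext (Subtype.ext (congrArg (fun t : π.ker => (t : G)) hxy))
  · rw [Nat.card_congr (QuotientGroup.quotientKerEquivRange _).toEquiv]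
    refine Nat.card_mono (Set.toFinite _) ?_
    rintro _ ⟨x, rfl⟩
    have h2 := mem_centralizer_singleton_iff.1 x.2
    refine mem_centralizer_singleton_iff.2 ?_
    change π x * π g = π g * π x
    rw [← map_mul, h2, map_mul]

variable {θ : Y →* E}

theorem cent_le (hq : ∀ y, e (π (θ y)) = q y) (y : Y) {A : ℕ}
    (h : Nat.card (centralizer ({q y} : Set Suz)) ≤ A) :
    Nat.card (centralizer ({θ y} : Set E)) ≤ Nat.card π.ker * A := by
  refine (card_cent_le π (θ y)).trans (Nat.mul_le_mul_left _ (le_trans (le_of_eq ?_) h))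
  rw [← hq]
  refine Nat.card_congr (e.toEquiv.subtypeEquiv ?_)
  intro x
  rw [mem_centralizer_singleton_iff, mem_centralizer_singleton_iff]
  show x * π (θ y) = π (θ y) * x ↔ e x * e (π (θ y)) = e (π (θ y)) * e x
  rw [← map_mul, ← map_mul, e.injective.eq_iff]

theorem ker_eq (hθ : Function.Surjective θ) (hq : ∀ y, e (π (θ y)) = q y) : π.ker = zpowers (θ z) := by
  refine le_antisymm ?_ ?_
  · intro x hx
    obtain ⟨y, rfl⟩ := hθ x
    have h1 : q y = 1 := by rw [← hq, MonoidHom.mem_ker.1 hx, map_one]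
    obtain ⟨n, hn⟩ := mem_zpowers_iff.1 (ker_le (MonoidHom.mem_ker.2 h1))
    exact mem_zpowers_iff.2 ⟨n, by rw [← map_zpow, hn]⟩
  · rw [zpowers_le, MonoidHom.mem_ker]
    exact e.injective (by rw [hq, q_z, map_one])

theorem order_z (hθ : Function.Surjective θ) (hq : ∀ y, e (π (θ y)) = q y) : orderOf (θ z) = Nat.card π.ker := by
  rw [ker_eq hθ hq, Nat.card_zpowers]

theorem ζ_mem (hq : ∀ y, e (π (θ y)) = q y) : θ ζ ∈ π.ker := by
  rw [MonoidHom.mem_ker]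
  exact e.injective (by rw [hq, ζ, map_pow, q_z, one_pow, map_one])

theorem ζ_ne {m : ℕ} (hθ : Function.Surjective θ) (hq : ∀ y, e (π (θ y)) = q y) (hm : Nat.card π.ker = m)
    (h2 : 2 ∣ m) : θ ζ ≠ 1 := by
  intro h1
  rw [ζ, map_pow] at h1
  have h3 := orderOf_dvd_of_pow_eq_one h1
  rw [order_z hθ hq, hm] at h3
  exact absurd (h2.trans h3) (by decide)

theorem ζ_sq : ζ * ζ = 1 := by
  rw [ζ, ← pow_add]
  have := Cfsg.Agent.H58.SuzRep.orderOf_z
  exact orderOf_dvd_iff_pow_eq_one.1 (by rw [this])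

theorem l_ζ {m : ℕ} (hθ : Function.Surjective θ) (hq : ∀ y, e (π (θ y)) = q y) (hm : Nat.card π.ker = m)
    (h2 : 2 ∣ m) {l : π.ker →* ℂˣ} (hl : Function.Injective l) : (l ⟨θ ζ, ζ_mem hq⟩ : ℂ) = -1 := by
  have h3 : l ⟨θ ζ, ζ_mem hq⟩ * l ⟨θ ζ, ζ_mem hq⟩ = 1 := by
    rw [← map_mul]
    have : (⟨θ ζ, ζ_mem hq⟩ : π.ker) * ⟨θ ζ, ζ_mem hq⟩ = 1 := Subtype.ext (by
      change θ ζ * θ ζ = 1
      rw [← map_mul, ζ_sq, map_one])
    rw [this, map_one]
  have h4 : (l ⟨θ ζ, ζ_mem hq⟩ : ℂ) * (l ⟨θ ζ, ζ_mem hq⟩ : ℂ) = 1 := by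
    rw [← Units.val_mul, h3, Units.val_one]
  rcases mul_self_eq_one_iff.1 h4 with h5 | h5
  · exfalso
    have h6 : l ⟨θ ζ, ζ_mem hq⟩ = 1 := Units.ext h5
    have h7 := hl (h6.trans (map_one l).symm)
    exact ζ_ne hθ hq hm h2 (congrArg Subtype.val h7)
  · exact h5

theorem ζ_one (hθ : Function.Surjective θ) (hq : ∀ y, e (π (θ y)) = q y) (hm : Nat.card π.ker = 3) :
    θ ζ = 1 := by
  rw [ζ, map_pow, ← hm, ← order_z hθ hq, pow_orderOf_eq_one]

theorem not_mem (hq : ∀ y, e (π (θ y)) = q y) {y : Y} (h : q y ≠ 1) : θ y ∉ π.ker := by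
  intro h1
  apply h
  rw [← hq, MonoidHom.mem_ker.1 h1, map_one]

/-! ### the prime 3 -/

theorem le_three (hθ : Function.Surjective θ) (hq : ∀ y, e (π (θ y)) = q y) (hker : π.ker ≤ center E)
    {l : π.ker →* ℂˣ} (hl : Function.Injective l)
    (hS : ∀ χ : IrrCharacter E, Lies π.ker l (χ : E → ℂ) → ¬ 3 ∣ charDegree (χ : E → ℂ)) :
    Nat.card {χ : IrrCharacter E // Lies π.ker l (χ : E → ℂ)} ≤ 27 := by
  have : Fact (Nat.Prime 3) := ⟨by norm_num⟩
  set R := r w21 with hR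
  have hR18 : R ^ 18 = 1 := R21
  have h := F1 (p := 3) (a := 2) (x := θ (R ^ 10)) (y := θ (R ^ 9)) (A := 54) (B := 18) (by norm_num) hker hl hS
    (by
      rw [← map_pow, ← pow_mul]
      have : R ^ (10 * 3 ^ 2) = (R ^ 18) ^ 5 := by rw [← pow_mul]; norm_num
      rw [this, hR18, one_pow, map_one])
    (by
      show θ (R ^ 10) * θ (R ^ 9) = θ (R ^ 9) * θ (R ^ 10)
      rw [← map_mul, ← map_mul, ← pow_add, ← pow_add])
    (by rw [← map_mul, ← pow_add, hR18, map_one])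
    (cent_le hq _ (by rw [map_pow, hR, q_r]; exact c9))
    (by
      rw [← map_mul, ← pow_add]
      have : R ^ (10 + 9) = R := by rw [show 10 + 9 = 18 + 1 from rfl, pow_add, hR18, one_mul, pow_one]
      rw [this]
      exact cent_le hq _ (by rw [hR, q_r]; exact c18))
  omega

/-! ### the prime 7 -/

theorem pow7 : (r w10 ^ 8) ^ 7 = 1 := by
  have h1 : (r w10 ^ 8) ^ 7 = (r w10 ^ 14) ^ 4 := by rw [← pow_mul, ← pow_mul]
  rw [h1, R10]
  have h2 : ζ ^ 4 = (ζ * ζ) ^ 2 := by rw [← pow_two, ← pow_mul]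
  rw [h2, ζ_sq, one_pow]

theorem comm7 : Commute (r w10 ^ 8) (r wT * r w10 ^ 7 * r wT ^ 2) := by
  have h1 : Commute (r w10 ^ 8) (r wT) := TX.symm
  have h2 : Commute (r w10 ^ 8) (r w10 ^ 7) := Commute.pow_pow_self _ _ _
  exact (h1.mul_right h2).mul_right (h1.pow_right 2)

theorem ζ_comm (y : Y) : ζ * y = y * ζ := by
  have h1 : ζ ∈ center Y := (center Y).pow_mem (q_ker (MonoidHom.mem_ker.2 q_z)) 3
  exact (mem_center_iff.1 h1 y).symm

theorem le_seven_even {m : ℕ} (hθ : Function.Surjective θ) (hq : ∀ y, e (π (θ y)) = q y) (hker : π.ker ≤ center E)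
    (hm : Nat.card π.ker = m) (h2 : 2 ∣ m) {l : π.ker →* ℂˣ} (hl : Function.Injective l)
    (hS : ∀ χ : IrrCharacter E, Lies π.ker l (χ : E → ℂ) → ¬ 7 ∣ charDegree (χ : E → ℂ)) :
    Nat.card {χ : IrrCharacter E // Lies π.ker l (χ : E → ℂ)} ≤ 21 := by
  have : Fact (Nat.Prime 7) := ⟨by norm_num⟩
  have h := F2 (p := 7) (a := 1) (x := θ (r w10 ^ 8)) (i := θ (r w10 ^ 7)) (j := θ (r wT * r w10 ^ 7 * r wT ^ 2))
    (w := ⟨θ ζ, ζ_mem hq⟩) (w' := ⟨θ ζ, ζ_mem hq⟩) (A := 84) hker hl hS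
    (by rw [pow_one, ← map_pow, pow7, map_one])
    ((Commute.pow_pow_self (r w10) 8 7).map θ)
    (comm7.map θ)
    (by
      show θ (r w10 ^ 7) * θ (r wT * r w10 ^ 7 * r wT ^ 2) = θ (r wT * r w10 ^ 7 * r wT ^ 2) * θ (r w10 ^ 7) * θ ζ
      rw [← map_mul, TIJ, ζ_comm, map_mul, map_mul])
    (by
      show θ (r w10 ^ 7) * θ (r w10 ^ 7) = θ ζ
      rw [← map_mul, ← pow_add, R10])
    (l_ζ hθ hq hm h2 hl) (Or.inr (l_ζ hθ hq hm h2 hl))
    (cent_le hq _ (by rw [map_pow, q_r]; exact c7))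
  omega

theorem le_seven_three (hθ : Function.Surjective θ) (hq : ∀ y, e (π (θ y)) = q y) (hker : π.ker ≤ center E)
    (hm : Nat.card π.ker = 3) {l : π.ker →* ℂˣ} (hl : Function.Injective l)
    (hS : ∀ χ : IrrCharacter E, Lies π.ker l (χ : E → ℂ) → ¬ 7 ∣ charDegree (χ : E → ℂ)) :
    Nat.card {χ : IrrCharacter E // Lies π.ker l (χ : E → ℂ)} ≤ 28 := by
  have : Fact (Nat.Prime 7) := ⟨by norm_num⟩
  have hζ := ζ_one hθ hq hm
  have hT : θ (r wT) ^ 3 = 1 := by rw [← map_pow, T3, map_one]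
  have hTinv : (θ (r wT))⁻¹ = θ (r wT ^ 2) := by
    rw [inv_eq_iff_mul_eq_one, ← map_mul, ← pow_succ', T3, map_one]
  have hI2 : θ (r w10 ^ 7) * θ (r w10 ^ 7) = 1 := by rw [← map_mul, ← pow_add, R10, hζ]
  have hIJ : θ (r w10 ^ 7) * θ (r wT * r w10 ^ 7 * r wT ^ 2) = θ (r wT * r w10 ^ 7 * r wT ^ 2) * θ (r w10 ^ 7) := by
    rw [← map_mul, TIJ, map_mul, hζ, one_mul, map_mul]
  have hJ2 : θ (r wT * r w10 ^ 7 * r wT ^ 2) * θ (r wT * r w10 ^ 7 * r wT ^ 2) = 1 := by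
    have h1 : r wT * r w10 ^ 7 * r wT ^ 2 * (r wT * r w10 ^ 7 * r wT ^ 2) =
        r wT * r w10 ^ 7 * (r wT ^ 3) * r w10 ^ 7 * r wT ^ 2 := by group
    rw [← map_mul, h1, T3, mul_one, mul_assoc (r wT), ← pow_add, map_mul, map_mul, R10, hζ, mul_one, ← map_mul,
      ← pow_succ', T3, map_one]
  have h := F3 (p := 7) (a := 1) (x := θ (r w10 ^ 8)) (y := θ (r w10 ^ 7))
    (y' := θ (r wT * r w10 ^ 7 * r wT ^ 2)) (t := θ (r wT)) (A := 84) (B := 28) (by norm_num) hker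
    (by rw [hm]; norm_num) hl hS
    (by rw [pow_one, ← map_pow, pow7, map_one])
    ((Commute.pow_pow_self (r w10) 8 7).map θ)
    (comm7.map θ)
    (Commute.map (show Commute (r w10 ^ 8) (r wT) from TX.symm) θ)
    hI2 hJ2 hIJ
    (by rw [hTinv, ← map_mul, ← map_mul])
    (by rw [hTinv, ← map_mul, ← map_mul, TJ, map_mul])
    (not_mem hq (by rw [map_pow, q_r]; exact ne7))
    (cent_le hq _ (by rw [map_pow, q_r]; exact c7))
    (by
      rw [← map_mul, ← pow_add]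
      have : r w10 ^ (8 + 7) = ζ * r w10 := by
        rw [show 8 + 7 = 14 + 1 from rfl, pow_add, R10, pow_one]
      rw [this, map_mul, hζ, one_mul]
      exact cent_le hq _ (by rw [q_r]; exact c14))
  omega

/-! ### the prime 5 -/

theorem pow5 : (r w13 ^ 6) ^ 5 = 1 := by
  have h1 : (r w13 ^ 6) ^ 5 = (r w13 ^ 15) ^ 2 := by rw [← pow_mul, ← pow_mul]
  rw [h1, R13, one_pow]

theorem comm5 : Commute (r w13 ^ 6) (r w13 ^ 10 * r wI * r w13 ^ 5) := by
  have h1 : Commute (r w13 ^ 6) (r wI) := IX.symm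
  exact ((Commute.pow_pow_self (r w13) 6 10).mul_right h1).mul_right (Commute.pow_pow_self (r w13) 6 5)

theorem T5 : r w13 ^ 5 * r w13 ^ 10 = 1 := by rw [← pow_add, R13]

theorem T10 : r w13 ^ 10 * r w13 ^ 5 = 1 := by rw [← pow_add, R13]

theorem le_five_even {m : ℕ} (hθ : Function.Surjective θ) (hq : ∀ y, e (π (θ y)) = q y) (hker : π.ker ≤ center E)
    (hm : Nat.card π.ker = m) (h2 : 2 ∣ m) (h5 : ¬ 5 ∣ m) {l : π.ker →* ℂˣ} (hl : Function.Injective l)
    (hS : ∀ χ : IrrCharacter E, Lies π.ker l (χ : E → ℂ) → ¬ 5 ∣ charDegree (χ : E → ℂ)) :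
    Nat.card {χ : IrrCharacter E // Lies π.ker l (χ : E → ℂ)} ≤ 20 := by
  have : Fact (Nat.Prime 5) := ⟨by norm_num⟩
  have hTinv : (θ (r w13 ^ 10))⁻¹ = θ (r w13 ^ 5) := by
    rw [inv_eq_iff_mul_eq_one, ← map_mul, T10, map_one]
  have h := F4 (p := 5) (a := 1) (x := θ (r w13 ^ 6)) (i := θ (r wI)) (j := θ (r w13 ^ 10 * r wI * r w13 ^ 5))
    (w := ⟨θ ζ, ζ_mem hq⟩) (w' := ⟨θ ζ, ζ_mem hq⟩) (y := θ (r w13 ^ 10)) (s := θ (r [3])) (A := 300) (B := 15)
    (by norm_num) hker (by rw [hm]; exact h5) hl hS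
    (by rw [pow_one, ← map_pow, pow5, map_one])
    (Commute.map (show Commute (r w13 ^ 6) (r wI) from IX.symm) θ)
    (comm5.map θ)
    (by
      show θ (r wI) * θ (r w13 ^ 10 * r wI * r w13 ^ 5) = θ (r w13 ^ 10 * r wI * r w13 ^ 5) * θ (r wI) * θ ζ
      rw [← map_mul, IJ, ζ_comm, map_mul, map_mul])
    (by
      show θ (r wI) * θ (r wI) = θ ζ
      rw [← map_mul, II])
    (l_ζ hθ hq hm h2 hl) (Or.inr (l_ζ hθ hq hm h2 hl))
    ((Commute.pow_pow_self (r w13) 6 10).map θ)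
    (by rw [← map_pow, ← pow_mul, show 10 * 3 = 15 * 2 from rfl, pow_mul, R13, one_pow, map_one])
    (not_mem hq (by rw [map_pow, q_r]; exact neT))
    (Commute.map (show Commute (r w13 ^ 6) (r [3]) from SX.symm) θ)
    (by rw [hTinv, mul_inv_eq_iff_eq_mul, ← map_mul, ← map_mul, SuzY.ST])
    (cent_le hq _ (by rw [map_pow, q_r]; exact c5))
    (by
      rw [← map_mul, ← pow_add, show 6 + 10 = 15 + 1 from rfl, pow_add, R13, one_mul, pow_one]
      exact cent_le hq _ (by rw [q_r]; exact c15))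
  omega

theorem le_five_three (hθ : Function.Surjective θ) (hq : ∀ y, e (π (θ y)) = q y) (hker : π.ker ≤ center E)
    (hm : Nat.card π.ker = 3) {l : π.ker →* ℂˣ} (hl : Function.Injective l)
    (hS : ∀ χ : IrrCharacter E, Lies π.ker l (χ : E → ℂ) → ¬ 5 ∣ charDegree (χ : E → ℂ)) :
    Nat.card {χ : IrrCharacter E // Lies π.ker l (χ : E → ℂ)} ≤ 20 := by
  have hζ := ζ_one hθ hq hm
  have hTinv : (θ (r w13 ^ 10))⁻¹ = θ (r w13 ^ 5) := by
    rw [inv_eq_iff_mul_eq_one, ← map_mul, T10, map_one]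
  have hI2 : θ (r wI) * θ (r wI) = 1 := by rw [← map_mul, II, hζ]
  have hIJ : θ (r wI) * θ (r w13 ^ 10 * r wI * r w13 ^ 5) = θ (r w13 ^ 10 * r wI * r w13 ^ 5) * θ (r wI) := by
    rw [← map_mul, IJ, map_mul, hζ, one_mul, map_mul]
  have hJ2 : θ (r w13 ^ 10 * r wI * r w13 ^ 5) * θ (r w13 ^ 10 * r wI * r w13 ^ 5) = 1 := by
    have h1 : r w13 ^ 10 * r wI * r w13 ^ 5 * (r w13 ^ 10 * r wI * r w13 ^ 5) =
        r w13 ^ 10 * (r wI * (r w13 ^ 5 * r w13 ^ 10) * r wI) * r w13 ^ 5 := by group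
    rw [← map_mul, h1, T5, mul_one, II, map_mul, map_mul, hζ, mul_one, ← map_mul, T10, map_one]
  have h := F5 (a := 1) (x := θ (r w13 ^ 6)) (y := θ (r wI))
    (y' := θ (r w13 ^ 10 * r wI * r w13 ^ 5)) (t := θ (r w13 ^ 10)) (s := θ (r [3])) (A := 300) (B₂ := 20) (B₃ := 15)
    hker (by rw [hm]; norm_num) hl hS
    (by rw [pow_one, ← map_pow, pow5, map_one])
    (Commute.map (show Commute (r w13 ^ 6) (r wI) from IX.symm) θ)
    (comm5.map θ)
    ((Commute.pow_pow_self (r w13) 6 10).map θ)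
    (Commute.map (show Commute (r w13 ^ 6) (r [3]) from SX.symm) θ)
    hI2 hJ2 hIJ
    (by rw [hTinv, ← map_mul, ← map_mul])
    (by rw [hTinv, ← map_mul, ← map_mul, JK, map_mul])
    (by rw [← map_pow, ← pow_mul, show 10 * 3 = 15 * 2 from rfl, pow_mul, R13, one_pow, map_one])
    (by rw [hTinv, mul_inv_eq_iff_eq_mul, ← map_mul, ← map_mul, SuzY.ST])
    (not_mem hq (by rw [q_r]; exact neI))
    (cent_le hq _ (by rw [map_pow, q_r]; exact c5))
    (by
      rw [← map_mul]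
      exact cent_le hq _ (by rw [map_mul, map_pow, q_r, q_r]; exact c10))
    (by
      rw [← map_mul, ← pow_add, show 6 + 10 = 15 + 1 from rfl, pow_add, R13, one_mul, pow_one]
      exact cent_le hq _ (by rw [q_r]; exact c15))
  omega

end Cfsg.Agent.H759.RIM.SuzUp
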