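import Cfsg.Agent.H759.RIM.SuzUp
import Cfsg.Agent.H714.RIM.SuzCount

/-!
# S4816, row `Suz`: traces in the representation of degree 12 over the field with 7 elements (helper759)
-/

set_option autoImplicit false
set_option maxRecDepth 1000000
set_option exponentiation.threshold 5000
set_option linter.unusedSectionVars false

namespace Cfsg.Agent.H759.RIM.SuzTr

open Cfsg Subgroup Cfsg.Agent.H759.RIM.SuzS Cfsg.Agent.H759.RIM.SuzY
open Cfsg.Spor (Suz)
open Cfsg.Agent.H123.Cls.SuzDat (gn)
open Cfsg.Agent.H257.OZ Cfsg.Agent.H257.OZ.SuzF Cfsg.Agent.H123.Cls Cfsg.Agent.H123.Cls.SuzDat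
open Cfsg.Agent.Lib.BitNet
open Cfsg.Agent.Lib.PackMat (okG checkEq checkScalar)
open Cfsg.Agent.H58.SuzRep (M12 C12 Y q q_surj q_ker z z_mem q_z ok_W mk prod_eq center_of_q)
open Cfsg.Agent.H622.Over (Lies Good)
open Cfsg.Agent.H714.RIM.SuzCount (SGood eq_rep dat T6)

universe u

theorem exists_scal {w : Y} (h : q w = 1) : ∃ c : ZMod 7, ((w : M12ˣ) : M12) = c • (1 : M12) := by
  have h1 := center_of_q h
  obtain ⟨r, hr⟩ := Matrix.GeneralLinearGroup.mem_center_iff_val_mem_range_scalar.1 h1
  exact ⟨r, by rw [← hr, Matrix.scalar_apply, Matrix.smul_one_eq_diagonal]⟩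

/-- the trace of an element of the cover -/
noncomputable def tr (y : Y) : ZMod 7 := Matrix.trace ((y : M12ˣ) : M12)

theorem tr_conj (y v : Y) : tr (v * y * v⁻¹) = tr y := by
  have h1 : (((v * y * v⁻¹ : Y) : M12ˣ) : M12) = ((v : M12ˣ) : M12) * ((y : M12ˣ) : M12) * (((v : M12ˣ)⁻¹ : M12ˣ) : M12) := by
    rw [Subgroup.coe_mul, Subgroup.coe_mul, Units.val_mul, Units.val_mul]; rfl
  rw [tr, h1, Matrix.trace_mul_comm, ← mul_assoc, Units.inv_mul, one_mul]
  rfl

theorem tr_mul {w : Y} {c : ZMod 7} (h : ((w : M12ˣ) : M12) = c • (1 : M12)) (y : Y) : tr (y * w) = c * tr y := by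
  rw [tr, Subgroup.coe_mul, Units.val_mul, h, mul_smul_comm, mul_one, Matrix.trace_smul, smul_eq_mul]
  rfl

variable {K : Type u} [Group K] {E : Type u} [Group E] [Finite E] {π : E →* K} {e : K ≃* Suz} {l : π.ker →* ℂˣ}
  {θ : Y →* E}

/-- **Elements with trace different from zero are good.** -/
theorem good_of_tr (hθ : Function.Surjective θ) (hq : ∀ y, e (π (θ y)) = q y) {y : Y} (ht : tr y ≠ 0) :
    SGood π e l (q y) := by
  intro x hx u hu
  obtain ⟨y0, rfl⟩ := hθ x
  obtain ⟨v, rfl⟩ := hθ u
  rw [hq] at hx
  -- the trace of `y0`
  have h0 : tr y0 ≠ 0 := by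
    intro h0
    apply ht
    obtain ⟨c, hc⟩ := exists_scal (w := y0⁻¹ * y) (by rw [map_mul, map_inv, hx, inv_mul_cancel])
    have h1 := tr_mul hc y0
    rw [mul_inv_cancel_left, h0, mul_zero] at h1
    exact h1
  have hw : q (v⁻¹ * y0⁻¹ * v * y0) = 1 := by
    rw [← hq]
    have h1 := MonoidHom.mem_ker.1 hu
    rw [← map_inv, ← map_inv, ← map_mul, ← map_mul, ← map_mul] at h1
    rw [h1, map_one]
  obtain ⟨c, hc⟩ := exists_scal hw
  have h2 := tr_mul hc (v⁻¹ * y0 * v)
  have h4 : c = 1 := by
    have h3 : v⁻¹ * y0 * v * (v⁻¹ * y0⁻¹ * v * y0) = y0 := by group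
    have h5 := tr_conj y0 v⁻¹
    rw [inv_inv] at h5
    rw [h3, h5] at h2
    have h6 : (c - 1) * tr y0 = 0 := by rw [sub_mul, one_mul, ← h2, sub_self]
    rcases mul_eq_zero.1 h6 with h7 | h7
    · exact sub_eq_zero.1 h7
    · exact absurd h7 h0
  have h5 : v⁻¹ * y0⁻¹ * v * y0 = 1 := by
    apply Subtype.ext
    apply Units.ext
    rw [hc, h4, one_smul]
    rfl
  have h6 : (⟨(θ v)⁻¹ * (θ y0)⁻¹ * θ v * θ y0, hu⟩ : π.ker) = 1 := by
    apply Subtype.ext
    change (θ v)⁻¹ * (θ y0)⁻¹ * θ v * θ y0 = 1
    rw [← map_inv, ← map_inv, ← map_mul, ← map_mul, ← map_mul, h5, map_one]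
  rw [h6, map_one]

theorem tr_of {l : List ℕ} {M : ℕ} (ok : okG C12 M = true) (h : checkEq C12 (V l) [M] 0 12 = true)
    (ht : Matrix.trace (mk M) ≠ 0) : tr (r l) ≠ 0 := by
  have h1 := prod_eq (ok_W (l.map gn)) (w := [M]) (fun g hg => by rw [List.mem_singleton] at hg; rw [hg]; exact ok) h
  rw [tr, coe_r]
  rw [show ((V l).map mk).prod = ([M].map mk).prod from h1]
  simpa using ht


/-- the word of `rep 0` -/
def l0 : List ℕ := [5, 6, 5, 6]
/-- packed matrix -/
def M0 : ℕ := 0x80200c0100404014000100001800008020180401001014000040000c000180300003018060000200c0200002010010180200402014000100000c000100100c04008010140000800018000040400c0201002014000040001800014050000501405000020140200002000000080000000008040000500805004040180100804014000080000c0000000008000000000805000040080500c060000600c03000020180200002000000080000000008050000500804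
theorem ta0 : allN (fun p => Nat.beq (evw 11 gens l0 p) (lk 11 p0 p)) 1782 = true := by decide +kernel
theorem tr0 : tr (r l0) ≠ 0 := tr_of (M := M0) (by decide +kernel) (by decide +kernel) (by decide +kernel)
theorem rp0 : g l0 = Cfsg.Agent.H714.RIM.SuzCount.rep 0 := eq_rep (i := 0) (tab_of (by decide) ta0)

/-- the word of `rep 3` -/
def l3 : List ℕ := [2, 3, 2, 1, 6, 5, 1, 2, 1, 5, 6, 1, 2, 3]
/-- packed matrix -/
def M3 : ℕ := 0x40501002000020080000c0001404000040000200c00000050080601000010050080400002008000140000c0100001010000180000005004030100000004000000140000805004050040000c0000c050040301802000010000600002000000180500005008050080000004000000180000006008030040500c01000000140000006008050100001400014050100301402000020000500c00018050100500c040000100005008030100400002004000140001402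
theorem ta3 : allN (fun p => Nat.beq (evw 11 gens l3 p) (lk 11 p3 p)) 1782 = true := by decide +kernel
theorem tr3 : tr (r l3) ≠ 0 := tr_of (M := M3) (by decide +kernel) (by decide +kernel) (by decide +kernel)
theorem rp3 : g l3 = Cfsg.Agent.H714.RIM.SuzCount.rep 3 := eq_rep (i := 3) (tab_of (by decide) ta3)

/-- the word of `rep 4` -/
def l4 : List ℕ := [2, 1, 6, 5, 3, 1, 2, 1, 3, 5, 6, 1]
/-- packed matrix -/
def M4 : ℕ := 0x80600c0600c0200c03014050140300c01014010000501405008060180501800004060040300c0301404014030140500805018060180000403004060180600c06004030040100005014030040501805018020180600c0300c06018060040200c0300403014050140000c010140301405010050180000805014050180501806000060040100c020180600c000040300c03014050100100c030140101405014040180200005018020000600c0300c010140501401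
theorem ta4 : allN (fun p => Nat.beq (evw 11 gens l4 p) (lk 11 p4 p)) 1782 = true := by decide +kernel
theorem tr4 : tr (r l4) ≠ 0 := tr_of (M := M4) (by decide +kernel) (by decide +kernel) (by decide +kernel)
theorem rp4 : g l4 = Cfsg.Agent.H714.RIM.SuzCount.rep 4 := eq_rep (i := 4) (tab_of (by decide) ta4)

/-- the word of `rep 5` -/
def l5 : List ℕ := [1, 3, 6, 5, 1, 4, 2, 1, 5, 6, 3, 1, 2, 4]
/-- packed matrix -/
def M5 : ℕ := 0x100600c0101406008060180500c000140000401014060180601805004060180101405018030100301006014030140600c0301406018060180201002008060100301402018060180500c060100600c030140601800008050040601803010050080300c03004060140000c0501806004000100501403008050140600c0400806018020180500c060040001806004050140501401018050180301005018030040000c020140300c050180200c00014050100101805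
theorem ta5 : allN (fun p => Nat.beq (evw 11 gens l5 p) (lk 11 p5 p)) 1782 = true := by decide +kernel
theorem tr5 : tr (r l5) ≠ 0 := tr_of (M := M5) (by decide +kernel) (by decide +kernel) (by decide +kernel)
theorem rp5 : g l5 = Cfsg.Agent.H714.RIM.SuzCount.rep 5 := eq_rep (i := 5) (tab_of (by decide) ta5)

/-- the word of `rep 7` -/
def l7 : List ℕ := [1, 4, 3, 6, 2, 4, 1, 2, 6, 3]
/-- packed matrix -/
def M7 : ℕ := 0x5004030180300403004050180500c060140500c0401004014060000601805004000180300c0100c040180501403018000140201806008030140100c060140401005008050140600c060180500c030180300c03010020080501805004030080300c0300c05000040180000c030080300c01004050180500c020080500c02014050140600c060000500c030080100c0300c0401805010030180601406018010180301404014000180601406008060180101401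
theorem ta7 : allN (fun p => Nat.beq (evw 11 gens l7 p) (lk 11 p7 p)) 1782 = true := by decide +kernel
theorem tr7 : tr (r l7) ≠ 0 := tr_of (M := M7) (by decide +kernel) (by decide +kernel) (by decide +kernel)
theorem rp7 : g l7 = Cfsg.Agent.H714.RIM.SuzCount.rep 7 := eq_rep (i := 7) (tab_of (by decide) ta7)

/-- the word of `rep 8` -/
def l8 : List ℕ := [5, 4, 6, 2, 1, 2, 3, 2, 6, 4, 5, 3, 2, 1]
/-- packed matrix -/
def M8 : ℕ := 0x1402008000000300c050000400c03014040040000005018030000401403004000000500c040040101400004040000300c0400800004000100300000008000000601801004010140001002018020040000006014030000100c030000600c02010000000001005000020000500c02008010000000406000000140600c0400400000000080600000010000000600c010100100c00008040000300c0100400000000040500c00000030180200400000050100600000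
theorem ta8 : allN (fun p => Nat.beq (evw 11 gens l8 p) (lk 11 p8 p)) 1782 = true := by decide +kernel
theorem tr8 : tr (r l8) ≠ 0 := tr_of (M := M8) (by decide +kernel) (by decide +kernel) (by decide +kernel)
theorem rp8 : g l8 = Cfsg.Agent.H714.RIM.SuzCount.rep 8 := eq_rep (i := 8) (tab_of (by decide) ta8)

/-- the word of `rep 11` -/
def l11 : List ℕ := [4, 6, 5, 1, 2, 3, 5, 6, 4, 3, 2, 1]
/-- packed matrix -/
def M11 : ℕ := 0x14020140101005018030140600c0000c0200c0600c010140100c050180300c040040600c030100600c050000300801018050180600c05008000140600803018040180000405018030140600c0500c0100c0301406010050080300c050040200c030140200c000180300c0500c0600c03010020040501800008060080301405018030140600c040180301805004060100501801014060040500c06004030140200c0500003014060100301000018030100600c05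
theorem ta11 : allN (fun p => Nat.beq (evw 11 gens l11 p) (lk 11 p11 p)) 1782 = true := by decide +kernel
theorem tr11 : tr (r l11) ≠ 0 := tr_of (M := M11) (by decide +kernel) (by decide +kernel) (by decide +kernel)
theorem rp11 : g l11 = Cfsg.Agent.H714.RIM.SuzCount.rep 11 := eq_rep (i := 11) (tab_of (by decide) ta11)

/-- the word of `rep 20` -/
def l20 : List ℕ := [6, 5, 3, 2, 1, 3, 5, 6, 1, 2]
/-- packed matrix -/
def M20 : ℕ := 0xc02018000000001003008010100201000008030140600004004000000000400008050140500002000000000200c02014000000000805008020080400c0100c0000000008060100201002000030000401001014000180600c0300003000040080200c000180501405010050040300c0500002000000000000800004060140500004000060000000006000040040400c0000c0601403008000080600c06000020000001400004000040500c06008040000000000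
theorem ta20 : allN (fun p => Nat.beq (evw 11 gens l20 p) (lk 11 p20 p)) 1782 = true := by decide +kernel
theorem tr20 : tr (r l20) ≠ 0 := tr_of (M := M20) (by decide +kernel) (by decide +kernel) (by decide +kernel)
theorem rp20 : g l20 = Cfsg.Agent.H714.RIM.SuzCount.rep 20 := eq_rep (i := 20) (tab_of (by decide) ta20)

/-- the word of `rep 25` -/
def l25 : List ℕ := [3, 2, 1, 4, 0, 1, 2, 3, 0, 4]
/-- packed matrix -/
def M25 : ℕ := 0x4010180300c02008040040200c0201401010060140200804004030080200c02014010100601001008040100301004008020040600402010050140500802014010100400c0100c060100400401010060080300804014020140201004008020140501402010060040101001008020040100403010010040101006008020040100404010010040100802018050100401801008040100600c0400802014010040201801004050180400802004010140200c0101401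
theorem ta25 : allN (fun p => Nat.beq (evw 11 gens l25 p) (lk 11 p25 p)) 1782 = true := by decide +kernel
theorem tr25 : tr (r l25) ≠ 0 := tr_of (M := M25) (by decide +kernel) (by decide +kernel) (by decide +kernel)
theorem rp25 : g l25 = Cfsg.Agent.H714.RIM.SuzCount.rep 25 := eq_rep (i := 25) (tab_of (by decide) ta25)

/-- the word of `rep 26` -/
def l26 : List ℕ := [3, 1, 6, 5, 1, 2, 1, 3, 2, 1, 5, 6]
/-- packed matrix -/
def M26 : ℕ := 0x40001006000000000000c0000c05014010180001002004010000100c00014040180000404008040000400c000040001806000000000000c0000805000050000400c0300c0601003000040180100c000040400801000010140000006000020180500c050100300001000050000201806018060080300002000030000200c0300c050080600002000050000200c06014030100600001018000080300000000000140000406000060000400c06014050040300002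
theorem ta26 : allN (fun p => Nat.beq (evw 11 gens l26 p) (lk 11 p26 p)) 1782 = true := by decide +kernel
theorem tr26 : tr (r l26) ≠ 0 := tr_of (M := M26) (by decide +kernel) (by decide +kernel) (by decide +kernel)
theorem rp26 : g l26 = Cfsg.Agent.H714.RIM.SuzCount.rep 26 := eq_rep (i := 26) (tab_of (by decide) ta26)

/-- the word of `rep 28` -/
def l28 : List ℕ := [4, 2, 3, 2, 4, 3]
/-- packed matrix -/
def M28 : ℕ := 0x1000018060180000c040080000c0501404000000000200006018010080001404000000000101805014040000000006004040080500800000050040200006010010040300800000060040401801000000100100005018010000000c0201400000020000501804000000180400000000020000500c02000050100000c06014000180100400014050000301002010030100000005004020140200004000040000500c0100000008000140501800014010080001405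
theorem ta28 : allN (fun p => Nat.beq (evw 11 gens l28 p) (lk 11 p28 p)) 1782 = true := by decide +kernel
theorem tr28 : tr (r l28) ≠ 0 := tr_of (M := M28) (by decide +kernel) (by decide +kernel) (by decide +kernel)
theorem rp28 : g l28 = Cfsg.Agent.H714.RIM.SuzCount.rep 28 := eq_rep (i := 28) (tab_of (by decide) ta28)

/-- the word of `rep 32` -/
def l32 : List ℕ := [5, 3, 1, 6, 1, 2, 6, 1, 3, 5, 2, 1]
/-- packed matrix -/
def M32 : ℕ := 0xc0400c0601004010040040400c010100101002004010040100c01010040080400c01010030100600406008010100500c0300405004010080101002010010100201405004060080101802014040080501804010040040600801004050140400c0200c02010020040401403004040140200803010020040401402004040080300c02010050040400804008010100401004008040080500806008010100400c040040600c01008040080501004018060040401401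
theorem ta32 : allN (fun p => Nat.beq (evw 11 gens l32 p) (lk 11 p32 p)) 1782 = true := by decide +kernel
theorem tr32 : tr (r l32) ≠ 0 := tr_of (M := M32) (by decide +kernel) (by decide +kernel) (by decide +kernel)
theorem rp32 : g l32 = Cfsg.Agent.H714.RIM.SuzCount.rep 32 := eq_rep (i := 32) (tab_of (by decide) ta32)

/-- the word of `rep 35` -/
def l35 : List ℕ := [3, 2, 3, 2]
/-- packed matrix -/
def M35 : ℕ := 0x403018030140101406008030180100c0101801008030140601403018010000300003010030140601403018030040301801014030140601404008030180601406010020040500c060100600c0100803014010140601404018030140500c0501805000030180400c00018060100600c0600c0200c0601002018060100200c060040501006014060140500c0001800018010180500c0500c0001803014030140601003000030100400c0501805008040180500c05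
theorem ta35 : allN (fun p => Nat.beq (evw 11 gens l35 p) (lk 11 p35 p)) 1782 = true := by decide +kernel
theorem tr35 : tr (r l35) ≠ 0 := tr_of (M := M35) (by decide +kernel) (by decide +kernel) (by decide +kernel)
theorem rp35 : g l35 = Cfsg.Agent.H714.RIM.SuzCount.rep 35 := eq_rep (i := 35) (tab_of (by decide) ta35)

/-- the word of `rep 36` -/
def l36 : List ℕ := [3, 4, 3, 4]
/-- packed matrix -/
def M36 : ℕ := 0x18020180400802004040180401801010060080200401010020080300c0600c04018010100400c010040500402008040040601804008010140500402010010080301801018020080200c04010010080200402010030080200804004020180400c0201804010040100500804004010100600802004010040200c04004050100400801018010040300806014050100400801004060040200c060040101804008010040101802004030100400802014040180401006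
theorem ta36 : allN (fun p => Nat.beq (evw 11 gens l36 p) (lk 11 p36 p)) 1782 = true := by decide +kernel
theorem tr36 : tr (r l36) ≠ 0 := tr_of (M := M36) (by decide +kernel) (by decide +kernel) (by decide +kernel)
theorem rp36 : g l36 = Cfsg.Agent.H714.RIM.SuzCount.rep 36 := eq_rep (i := 36) (tab_of (by decide) ta36)

theorem words : ∀ i ∈ T6, ∃ y : Y, q y = Cfsg.Agent.H714.RIM.SuzCount.rep i ∧ tr y ≠ 0 := by
  intro i hi
  simp only [T6, Finset.mem_insert, Finset.mem_singleton] at hi
  rcases hi with rfl | rfl | rfl | rfl | rfl | rfl | rfl | rfl | rfl | rfl | rfl | rfl | rfl | rfl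
  · exact ⟨r l0, by rw [q_r, rp0], tr0⟩
  · exact ⟨r l3, by rw [q_r, rp3], tr3⟩
  · exact ⟨r l4, by rw [q_r, rp4], tr4⟩
  · exact ⟨r l5, by rw [q_r, rp5], tr5⟩
  · exact ⟨r l7, by rw [q_r, rp7], tr7⟩
  · exact ⟨r l8, by rw [q_r, rp8], tr8⟩
  · exact ⟨r l11, by rw [q_r, rp11], tr11⟩
  · exact ⟨r l20, by rw [q_r, rp20], tr20⟩
  · exact ⟨r l25, by rw [q_r, rp25], tr25⟩
  · exact ⟨r l26, by rw [q_r, rp26], tr26⟩
  · exact ⟨r l28, by rw [q_r, rp28], tr28⟩
  · exact ⟨r l32, by rw [q_r, rp32], tr32⟩
  · exact ⟨r l35, by rw [q_r, rp35], tr35⟩
  · exact ⟨r l36, by rw [q_r, rp36], tr36⟩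

theorem traces (hθ : Function.Surjective θ) (hq : ∀ y, e (π (θ y)) = q y) : ∀ i ∈ T6, SGood π e l (Cfsg.Agent.H714.RIM.SuzCount.rep i) := by
  intro i hi
  obtain ⟨y, hy, ht⟩ := words i hi
  rw [← hy]
  exact good_of_tr hθ hq ht

end Cfsg.Agent.H759.RIM.SuzTr
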